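import Cfsg.Agent.HNOut.Positions
import Mathlib.GroupTheory.Sylow

/-!
An injective endomorphism of `P` fixing the central involution is, up to an inner automorphism, the
identity or the map fixing `x`, `y` and multiplying `z` by the central involution.
-/

set_option autoImplicit false
set_option Elab.async false
set_option maxRecDepth 100000

namespace CfsgLib.HNOut

open CfsgLib.CosetEnum CfsgLib.HNCert

noncomputable section

theorem conj_mem_zpowers_of_prime {G : Type*} [Group G] [Finite G] {p : ℕ} [Fact p.Prime]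
    (hp : ¬ p * p ∣ Nat.card G) {a b : G} (ha : orderOf a = p) (hb : orderOf b = p) :
    ∃ g : G, g * a * g⁻¹ ∈ Subgroup.zpowers b := by
  have hA : IsPGroup p (Subgroup.zpowers a) :=
    IsPGroup.of_card (n := 1) (by rw [Nat.card_zpowers, ha, pow_one])
  have hB' : IsPGroup p (Subgroup.zpowers b) :=
    IsPGroup.of_card (n := 1) (by rw [Nat.card_zpowers, hb, pow_one])
  obtain ⟨Q1, h1⟩ := hA.exists_le_sylow
  obtain ⟨Q2, h2⟩ := hB'.exists_le_sylow
  obtain ⟨g, hg⟩ := MulAction.exists_smul_eq G Q1 Q2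
  refine ⟨g, ?_⟩
  have hQ : (Q2 : Subgroup G) = Subgroup.zpowers b := by
    obtain ⟨k, hk⟩ := IsPGroup.iff_card.mp Q2.2
    refine (Subgroup.eq_of_le_of_card_ge h2 ?_).symm
    rw [Nat.card_zpowers, hb, hk]
    have hk2 : k ≤ 1 := by
      by_contra hlt
      push Not at hlt
      exact hp (((pow_two p).symm ▸ pow_dvd_pow p hlt : p * p ∣ p ^ k).trans
        (hk ▸ Subgroup.card_subgroup_dvd_card _))
    calc p ^ k ≤ p ^ 1 := Nat.pow_le_pow_right (Fact.out : p.Prime).pos hk2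
      _ = p := pow_one p
  rw [← hQ, ← hg]
  exact ⟨a, h1 (Subgroup.mem_zpowers a), rfl⟩

/-- A word repeated. -/
def rep (n : ℕ) (w : List ℕ) : List ℕ := (List.replicate n w).flatten

theorem prodw_rep (w : List ℕ) : ∀ n, prodw pg (rep n w) = prodw pg w ^ n
  | 0 => by simp [rep, prodw_nil]
  | n + 1 => by
    rw [rep, List.replicate_succ, List.flatten_cons, prodw_append, pow_succ',
      show prodw pg (List.replicate n w).flatten = _ from prodw_rep w n]

theorem rep_lt {w : List ℕ} (h : ∀ x ∈ w, x < 5) (n : ℕ) : ∀ x ∈ rep n w, x < 5 := by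
  intro x hx
  obtain ⟨l, hl, hxl⟩ := List.mem_flatten.mp hx
  exact h x (List.eq_of_mem_replicate hl ▸ hxl)

/-- The element normalising `s11`. -/
def b10 : P := prodw pg bW

/-- The third generator. -/
def c3 : P := prodw pg cW

theorem bW_lt : ∀ x ∈ bW, x < 5 := by decide +kernel

theorem cW_lt : ∀ x ∈ cW, x < 5 := by decide +kernel

theorem cS_lt : ∀ r ∈ cS, ∀ x ∈ r, x < 5 := by decide +kernel

theorem cB_lt : ∀ r ∈ cB, ∀ x ∈ r, x < 5 := by decide +kernel

theorem conj_b (hB : Bound) : b10⁻¹ * s11 * b10 = s11 ^ 2 := by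
  have e := eq_of_same hB (app_lt (app_lt (wi_lt bW_lt) sW_lt) bW_lt) (rep_lt sW_lt 2)
    (show same (wi bW ++ sW ++ bW) (rep 2 sW) = true by decide +kernel)
  rw [prodw_append, prodw_append, prodw_wi bW_lt, prodw_rep] at e
  exact e

theorem conj_b_pow (hB : Bound) : ∀ (j k : ℕ),
    (b10 ^ j)⁻¹ * s11 ^ k * b10 ^ j = s11 ^ (k * 2 ^ j)
  | 0, k => by simp
  | j + 1, k => by
    have h1 : b10⁻¹ * s11 ^ (k * 2 ^ j) * b10 = s11 ^ (k * 2 ^ (j + 1)) := by
      have := (conj_pow (i := k * 2 ^ j) (a := b10⁻¹) (b := s11)).symm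
      rw [inv_inv] at this
      rw [this, conj_b hB, ← pow_mul]
      congr 1
      ring
    rw [← h1, ← conj_b_pow hB j k]
    group

/-- Every element of the centraliser of `s11` becomes `1` or the central involution after moving the
second generator by a power of `s11`. -/
def okNorm : Bool :=
  cS.all fun r => (List.range 11).any fun i =>
    same (rep i sW ++ r ++ bW ++ rep (11 - i) sW) bW ||
      same (rep i sW ++ r ++ bW ++ rep (11 - i) sW) ([0, 0] ++ bW)

/-- The images of the generators and their inverses. -/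
def imgs6 (be ce : List ℕ) : List (List ℕ) := [sW, wi sW, be, wi be, ce, wi ce]

/-- The two normalised images of the second generator. -/
def bImgs : List (List ℕ) := [bW, [0, 0] ++ bW]

/-- The third generator has only one image, and the relations hold for the generators. -/
def okRel : Bool :=
  (relW.all fun e => same (rep e.2 (gw (imgs6 bW cW) e.1)) []) && bImgs.all fun be =>
    cB.all fun ce => same ce cW || relW.any fun e => !same (rep e.2 (gw (imgs6 be ce) e.1)) []

/-- The three generators give `x`, `y`, `z`, and the twisted ones `x`, `y`, `z x²`. -/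
def okXyz : Bool :=
  same (gw (imgs6 bW cW) (xyzW.getD 0 [])) [0] && (same (gw (imgs6 bW cW) (xyzW.getD 1 [])) [2] &&
    (same (gw (imgs6 bW cW) (xyzW.getD 2 [])) [4] &&
    (same (gw (imgs6 ([0, 0] ++ bW) cW) (xyzW.getD 0 [])) [0] &&
      (same (gw (imgs6 ([0, 0] ++ bW) cW) (xyzW.getD 1 [])) [2] &&
        same (gw (imgs6 ([0, 0] ++ bW) cW) (xyzW.getD 2 [])) [4, 0, 0]))))

theorem okNorm_true : okNorm = true := by decide +kernel

theorem okRel_true : okRel = true := by decide +kernel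

theorem okXyz_true : okXyz = true := by decide +kernel

theorem imgs6_lt {be ce : List ℕ} (hb : ∀ x ∈ be, x < 5) (hc : ∀ x ∈ ce, x < 5) :
    okW (imgs6 be ce) = true := by
  simp only [okW, imgs6, List.all_cons, List.all_nil, Bool.and_true, Bool.and_eq_true,
    List.all_eq_true, Nat.blt_eq]
  exact ⟨sW_lt, wi_lt sW_lt, hb, wi_lt hb, hc, wi_lt hc⟩

theorem map_gw {ψ : P →* P} {be ce : List ℕ} (hbe : ∀ x ∈ be, x < 5) (hce : ∀ x ∈ ce, x < 5)
    (hs : ψ s11 = s11) (hb : ψ b10 = prodw pg be) (hc : ψ c3 = prodw pg ce) :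
    ∀ w : List ℕ, ψ (prodw pg (gw (imgs6 bW cW) w)) = prodw pg (gw (imgs6 be ce) w)
  | [] => by simp [gw, prodw_nil]
  | i :: w => by
    have ih := map_gw hbe hce hs hb hc w
    rw [gw, gw, List.flatMap_cons, List.flatMap_cons, prodw_append, prodw_append, map_mul,
      show (List.flatMap (fun i => (imgs6 bW cW).getD i []) w) = gw (imgs6 bW cW) w from rfl,
      show (List.flatMap (fun i => (imgs6 be ce).getD i []) w) = gw (imgs6 be ce) w from rfl, ih]
    congr 1
    by_cases h : i < 6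
    · interval_cases i
      · exact hs
      · show ψ (prodw pg (wi sW)) = prodw pg (wi sW)
        rw [prodw_wi sW_lt, map_inv]
        exact congrArg _ hs
      · exact hb
      · show ψ (prodw pg (wi bW)) = prodw pg (wi be)
        rw [prodw_wi bW_lt, prodw_wi hbe, map_inv]
        exact congrArg _ hb
      · exact hc
      · show ψ (prodw pg (wi cW)) = prodw pg (wi ce)
        rw [prodw_wi cW_lt, prodw_wi hce, map_inv]
        exact congrArg _ hc
    · rw [List.getD_eq_default _ _ (by simp [imgs6]; omega),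
        List.getD_eq_default _ _ (by simp [imgs6]; omega), prodw_nil, map_one]

theorem s11_comm_x2 (hB : Bound) : x2 * s11 = s11 * x2 := (x2_comm hB s11).eq

theorem exists_conj_fix (hB : Bound) (ψ : P →* P) (hinj : Function.Injective ψ) :
    ∃ p : P, p * ψ s11 * p⁻¹ = s11 := by
  have := hB.1
  have : Fact (Nat.Prime 11) := ⟨by norm_num⟩
  have ho : orderOf (ψ s11) = 11 := (orderOf_injective ψ hinj s11).trans (orderOf_s11 hB)
  obtain ⟨g, hg⟩ := conj_mem_zpowers_of_prime (p := 11) (by rw [card_P hB]; norm_num) ho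
    (orderOf_s11 hB)
  rw [← mem_powers_iff_mem_zpowers, Submonoid.mem_powers_iff] at hg
  obtain ⟨k, hk⟩ := hg
  have hk0 : ¬ 11 ∣ k := by
    rintro ⟨m, rfl⟩
    rw [pow_mul, s11_pow hB, one_pow] at hk
    have h1 : ψ s11 = 1 := by simpa [mul_inv_eq_one] using hk.symm
    rw [h1, orderOf_one] at ho
    norm_num at ho
  have hj : ∀ k < 11, k ≠ 0 → ∃ j < 11, k * 2 ^ j % 11 = 1 := by decide +kernel
  obtain ⟨j, -, hj⟩ := hj (k % 11) (Nat.mod_lt _ (by norm_num))
    fun h => hk0 (Nat.dvd_of_mod_eq_zero h)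
  refine ⟨(b10 ^ j)⁻¹ * g, ?_⟩
  calc (b10 ^ j)⁻¹ * g * ψ s11 * ((b10 ^ j)⁻¹ * g)⁻¹
      = (b10 ^ j)⁻¹ * (g * ψ s11 * g⁻¹) * b10 ^ j := by group
    _ = s11 ^ ((k % 11) * 2 ^ j % 11) := by
        rw [← hk, conj_b_pow hB, ← pow_mod_orderOf s11 (k * 2 ^ j), orderOf_s11 hB, Nat.mod_mul_mod]
    _ = s11 := by rw [hj, pow_one]

theorem exists_conj_fix_two (hB : Bound) (ψ : P →* P) (hs : ψ s11 = s11) :
    ∃ p : P, p * s11 * p⁻¹ = s11 ∧ ∃ be ∈ bImgs, p * ψ b10 * p⁻¹ = prodw pg be := by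
  have h1 : (ψ b10)⁻¹ * s11 * ψ b10 = s11 ^ 2 := by
    have := congrArg ψ (conj_b hB)
    rwa [map_mul, map_mul, map_inv, map_pow, hs] at this
  have hc : Commute (ψ b10 * b10⁻¹) s11 := by
    have h2 : (ψ b10)⁻¹ * s11 * ψ b10 = b10⁻¹ * s11 * b10 := h1.trans (conj_b hB).symm
    show ψ b10 * b10⁻¹ * s11 = s11 * (ψ b10 * b10⁻¹)
    calc ψ b10 * b10⁻¹ * s11 = ψ b10 * (b10⁻¹ * s11 * b10) * b10⁻¹ := by group
      _ = ψ b10 * ((ψ b10)⁻¹ * s11 * ψ b10) * b10⁻¹ := by rw [h2]
      _ = s11 * (ψ b10 * b10⁻¹) := by group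
  obtain ⟨r, hr, hre⟩ := cent_of_okCent hB okS11 (p := ψ b10 * b10⁻¹) fun g hg => by
    rw [List.mem_singleton.mp hg]; exact hc
  have hn := List.all_eq_true.mp okNorm_true r hr
  simp only [List.any_eq_true, List.mem_range, Bool.or_eq_true] at hn
  obtain ⟨i, hi, hi'⟩ := hn
  refine ⟨s11 ^ i, by rw [← pow_succ, mul_inv_eq_iff_eq_mul, ← pow_succ'], ?_⟩
  have hlt : ∀ x ∈ rep i sW ++ r ++ bW ++ rep (11 - i) sW, x < 5 :=
    app_lt (app_lt (app_lt (rep_lt sW_lt _) (cS_lt r hr)) bW_lt) (rep_lt sW_lt _)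
  have hval : prodw pg (rep i sW ++ r ++ bW ++ rep (11 - i) sW) =
      s11 ^ i * ψ b10 * (s11 ^ i)⁻¹ := by
    rw [prodw_append, prodw_append, prodw_append, prodw_rep, prodw_rep, ← hre]
    have h11 : s11 ^ (11 - i) = (s11 ^ i)⁻¹ := by
      refine eq_inv_of_mul_eq_one_left ?_
      rw [← pow_add, Nat.sub_add_cancel hi.le, s11_pow hB]
    change s11 ^ i * (ψ b10 * b10⁻¹) * b10 * s11 ^ (11 - i) = _
    rw [h11]
    group
  rcases hi' with h | h
  · exact ⟨bW, List.mem_cons_self, hval.symm.trans (eq_of_same hB hlt bW_lt h)⟩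
  · exact ⟨[0, 0] ++ bW, List.mem_cons_of_mem _ List.mem_cons_self,
      hval.symm.trans (eq_of_same hB hlt (app_lt (by simp) bW_lt) h)⟩

theorem fixed_or_twist (hB : Bound) (ψ : P →* P) (hs : ψ s11 = s11)
    {be : List ℕ} (hbe : be ∈ bImgs) (hb : ψ b10 = prodw pg be) :
    (ψ (pg 0) = pg 0 ∧ ψ (pg 2) = pg 2) ∧ (ψ (pg 4) = pg 4 ∨ ψ (pg 4) = pg 4 * x2) := by
  have hbe5 : ∀ x ∈ be, x < 5 := by
    simp only [bImgs, List.mem_cons, List.not_mem_nil, or_false] at hbe
    rcases hbe with rfl | rfl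
    exacts [bW_lt, app_lt (by simp) bW_lt]
  have hsq : prodw pg (be ++ be) = prodw pg (bW ++ bW) := by
    have hd : ∀ be ∈ bImgs, same (be ++ be) (bW ++ bW) = true := by decide +kernel
    exact eq_of_same hB (app_lt hbe5 hbe5) (app_lt bW_lt bW_lt) (hd be hbe)
  have hc3 : Commute c3 (prodw pg (bW ++ bW)) := by
    have e := eq_of_same hB (app_lt cW_lt (app_lt bW_lt bW_lt))
      (app_lt (app_lt bW_lt bW_lt) cW_lt)
      (show same (cW ++ (bW ++ bW)) ((bW ++ bW) ++ cW) = true by decide +kernel)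
    rw [prodw_append, prodw_append _ (bW ++ bW) cW] at e
    exact e
  have hcm : Commute (ψ c3) (prodw pg (bW ++ bW)) := by
    have := hc3.map ψ
    rwa [prodw_append, map_mul, show ψ (prodw pg bW) = _ from hb, ← prodw_append, hsq] at this
  obtain ⟨ce, hce, hc⟩ := cent_of_okCent hB okB2 (p := ψ c3) fun g hg => by
    rw [List.mem_singleton.mp hg]; exact hcm
  have hok := okRel_true
  simp only [okRel, Bool.and_eq_true, List.all_eq_true, Bool.or_eq_true, List.any_eq_true,
    Bool.not_eq_true'] at hok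
  obtain ⟨horig, himg⟩ := hok
  have hcW : ψ c3 = prodw pg cW := by
    rcases himg be hbe ce hce with h | ⟨e, he, hfail⟩
    · rw [hc]; exact eq_of_same hB (cB_lt ce hce) cW_lt h
    · exfalso
      have h1 := eq_of_same hB (rep_lt (gw_lt (imgs6_lt bW_lt cW_lt) _) _) (by simp) (horig e he)
      have h2 : prodw pg (rep e.2 (gw (imgs6 be ce) e.1)) = prodw pg [] := by
        rw [prodw_rep, ← map_gw hbe5 (cB_lt ce hce) hs hb hc, ← map_pow, ← prodw_rep, h1,
          prodw_nil, map_one]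
      have := same_of_eq (rep_lt (gw_lt (imgs6_lt hbe5 (cB_lt ce hce)) _) _) (by simp) h2
      rw [hfail] at this
      exact Bool.false_ne_true this
  have hx := okXyz_true
  simp only [okXyz, Bool.and_eq_true] at hx
  obtain ⟨x0', x1, x2', t0, t1, t2⟩ := hx
  have key : ∀ (a : ℕ) (w v : List ℕ), a < 5 → (∀ x ∈ v, x < 5) →
      same (gw (imgs6 bW cW) w) [a] = true → same (gw (imgs6 be cW) w) v = true →
      ψ (pg a) = prodw pg v := by
    intro a w v ha hv h1 h2
    have e1 := eq_of_same hB (gw_lt (imgs6_lt bW_lt cW_lt) _) (by simpa using ha) h1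
    rw [prodw_cons, prodw_nil, mul_one] at e1
    rw [← e1, map_gw hbe5 cW_lt hs hb hcW,
      eq_of_same hB (gw_lt (imgs6_lt hbe5 cW_lt) _) hv h2]
  have one : ∀ a, prodw pg [a] = pg a := fun a => by rw [prodw_cons, prodw_nil, mul_one]
  simp only [bImgs, List.mem_cons, List.not_mem_nil, or_false] at hbe
  rcases hbe with rfl | rfl
  · exact ⟨⟨(key 0 _ [0] (by norm_num) (by simp) x0' x0').trans (one 0),
      (key 2 _ [2] (by norm_num) (by simp) x1 x1).trans (one 2)⟩,
      Or.inl ((key 4 _ [4] (by norm_num) (by simp) x2' x2').trans (one 4))⟩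
  · refine ⟨⟨(key 0 _ [0] (by norm_num) (by simp) x0' t0).trans (one 0),
      (key 2 _ [2] (by norm_num) (by simp) x1 t1).trans (one 2)⟩, Or.inr ?_⟩
    rw [key 4 _ [4, 0, 0] (by norm_num) (by simp) x2' t2, prodw_cons]
    rfl

/-- Up to conjugation in `P` there are at most two such endomorphisms. -/
theorem autP (hB : Bound) (ψ : P →* P) (hinj : Function.Injective ψ) :
    ∃ p : P, (p * ψ (pg 0) * p⁻¹ = pg 0 ∧ p * ψ (pg 2) * p⁻¹ = pg 2) ∧
      (p * ψ (pg 4) * p⁻¹ = pg 4 ∨ p * ψ (pg 4) * p⁻¹ = pg 4 * x2) := by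
  obtain ⟨p1, hp1⟩ := exists_conj_fix hB ψ hinj
  let ψ1 : P →* P := (MulAut.conj p1).toMonoidHom.comp ψ
  have hs1 : ψ1 s11 = s11 := hp1
  obtain ⟨p2, hp2, be, hbe, hb⟩ := exists_conj_fix_two hB ψ1 hs1
  let ψ2 : P →* P := (MulAut.conj p2).toMonoidHom.comp ψ1
  have hs2 : ψ2 s11 = s11 := by
    show p2 * ψ1 s11 * p2⁻¹ = s11
    rw [hs1, hp2]
  have h := fixed_or_twist hB ψ2 hs2 hbe hb
  refine ⟨p2 * p1, ?_⟩
  have e : ∀ q, p2 * p1 * ψ q * (p2 * p1)⁻¹ = ψ2 q := fun q => by
    show _ = p2 * (p1 * ψ q * p1⁻¹) * p2⁻¹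
    group
  rw [e, e, e]
  exact h

end

end CfsgLib.HNOut
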