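import Cfsg.Agent.HNOut.Positions

/-!
The outer automorphism of the Harada–Norton group fixing `x`, `y`, sending `z` to `z x²` and `t` to
`t²`, and the positions of the powers of `t`.
-/

set_option autoImplicit false
set_option Elab.async false
set_option maxRecDepth 100000
set_option linter.constructorNameAsVariable false

namespace CfsgLib.HNOut

open CfsgLib.CosetEnum CfsgLib.HNCert Cfsg.Spor

noncomputable section

theorem one_word (i : ℕ) : prodw g [i] = g i := by rw [prodw_cons, prodw_nil, mul_one]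

theorem emb_x2 : emb x2 = g 0 * g 0 := by
  rw [x2, emb_prodw (by simp)]
  simp [prodw_cons, prodw_nil]

theorem twist_t_x2 : (emb x2)⁻¹ * g 5 * emb x2 = g 5 ^ 4 := by
  rw [x2, emb_prodw (by simp), conj_word [0, 0] (by simp), show twist [0, 0] = 4 by decide +kernel]

/-- The values of the generators. -/
def fTw : HN.Gen → Cfsg.Spor.HN
  | .x => g 0
  | .y => g 2
  | .z => g 4 * emb x2
  | .t => g 5 ^ 2

/-- The substitution for the letters free of `t`. -/
def subz (a : ℕ) : List ℕ := bif Nat.beq a 4 then [4, 0, 0] else [a]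

/-- The relators free of `t` still hold. -/
theorem sub_relP : (relP.all fun w => same (w.flatMap subz) []) = true := by decide +kernel

theorem val_subz {i : ℕ} (hi : i < 5) :
    val (fTw .x) (fTw .y) (fTw .z) (fTw .t) i = prodw g (subz i) := by
  interval_cases i
  · exact (one_word 0).symm
  · exact (one_word 1).symm
  · exact (one_word 2).symm
  · exact (one_word 3).symm
  · show g 4 * emb x2 = prodw g [4, 0, 0]
    rw [emb_x2]
    simp [prodw_cons, prodw_nil]

/-- The word carrying `z` to `z x²`. -/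
def nW : List ℕ := [2, 0, 2, 0, 2, 2, 0, 3]

theorem conj_zt (hB : Bound) :
    (prodw g nW)⁻¹ * (g 4 * g 5) * prodw g nW = g 4 * emb x2 * g 5 ^ 2 := by
  have h5 : ∀ x ∈ nW, x < 5 := by decide +kernel
  have h4 : ∀ x ∈ nW, x < 4 := by decide +kernel
  have e := congrArg emb (eq_of_same hB (app_lt (app_lt (wi_lt h5) (by simp : ∀ x ∈ [4], x < 5)) h5)
    (show ∀ x ∈ ([4, 0, 0] : List ℕ), x < 5 by simp)
    (show same (wi nW ++ [4] ++ nW) [4, 0, 0] = true by decide +kernel))
  rw [prodw_append, prodw_append, prodw_wi h5, map_mul, map_mul, map_inv, emb_prodw h5,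
    prodw_cons, prodw_nil, mul_one, emb_pg (by norm_num), prodw_cons, map_mul,
    emb_pg (by norm_num)] at e
  change _ = g 4 * emb x2 at e
  have et := conj_word nW h4
  rw [show twist nW = 2 by decide +kernel] at et
  rw [← e, ← et]
  group

theorem fTw_rels (hB : Bound) : ∀ w ∈ relP ++ relT,
    prodw (val (fTw .x) (fTw .y) (fTw .z) (fTw .t)) w = 1 := by
  intro w hw
  rcases List.mem_append.mp hw with h | h
  · have key : ∀ v : List ℕ, (∀ x ∈ v, x < 5) →
        prodw (val (fTw .x) (fTw .y) (fTw .z) (fTw .t)) v = prodw g (v.flatMap subz) ∧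
          ∀ x ∈ v.flatMap subz, x < 5 := by
      intro v
      induction v with
      | nil => intro _; exact ⟨by rw [List.flatMap_nil, prodw_nil, prodw_nil], by simp⟩
      | cons a v ih =>
        intro hv
        have ha := hv a List.mem_cons_self
        obtain ⟨h1, h2⟩ := ih fun x hx => hv x (List.mem_cons_of_mem _ hx)
        refine ⟨?_, ?_⟩
        · rw [prodw_cons, h1, List.flatMap_cons, prodw_append, val_subz ha]
        · rw [List.flatMap_cons]
          refine app_lt ?_ h2
          interval_cases a <;> decide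
    obtain ⟨h1, h2⟩ := key w (relP_lt w h)
    rw [h1, ← emb_prodw h2,
      eq_of_same hB h2 (by simp) (List.all_eq_true.mp sub_relP w h), prodw_nil, map_one]
  · simp only [relT, List.mem_cons, List.not_mem_nil, or_false] at h
    have h10 : g 5 ^ 10 = 1 := by rw [show 10 = 5 * 2 from rfl, pow_mul, t_pow_five, one_pow]
    rcases h with rfl | rfl | rfl | rfl
    · simp only [prodw, List.map_cons, List.map_nil, List.prod_cons, List.prod_nil, mul_one,
        val, fTw, ← pow_add]
      exact h10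
    · simp only [prodw, List.map_cons, List.map_nil, List.prod_cons, List.prod_nil, mul_one,
        val, fTw]
      have hx : (g 0)⁻¹ * g 5 ^ 2 * g 0 = g 5 ^ 6 := by
        have := (conj_pow (i := 2) (a := (g 0)⁻¹) (b := g 5)).symm
        rw [inv_inv] at this
        rw [this, conj_x, ← pow_mul]
      rw [show (g 0)⁻¹ * (g 5 ^ 2 * (g 0 * (g 5 ^ 2 * g 5 ^ 2))) =
        ((g 0)⁻¹ * g 5 ^ 2 * g 0) * (g 5 ^ 2 * g 5 ^ 2) by group, hx, ← pow_add, ← pow_add]
      exact h10
    · simp only [prodw, List.map_cons, List.map_nil, List.prod_cons, List.prod_nil, mul_one,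
        val, fTw]
      have hy := conj_word [2] (by simp)
      rw [one_word, show twist [2] = 1 by decide +kernel, pow_one] at hy
      have hc : Commute (g 5) (g 2) := by
        show g 5 * g 2 = g 2 * g 5
        conv_rhs => rw [← hy]
        group
      rw [((hc.pow_left 2).eq)]
      group
    · simp only [prodw, List.map_cons, List.map_nil, List.prod_cons, List.prod_nil, mul_one,
        val, fTw]
      have h3 := g_rel [4, 5, 4, 5, 4, 5] (by simp [relT])
      simp only [prodw, List.map_cons, List.map_nil, List.prod_cons, List.prod_nil, mul_one] at h3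
      calc _ = (prodw g nW)⁻¹ * (g 4 * (g 5 * (g 4 * (g 5 * (g 4 * g 5))))) * prodw g nW := by
            rw [show g 4 * emb x2 * (g 5 ^ 2 * (g 4 * emb x2 * (g 5 ^ 2 * (g 4 * emb x2 * g 5 ^ 2)))) =
              (g 4 * emb x2 * g 5 ^ 2) * ((g 4 * emb x2 * g 5 ^ 2) * (g 4 * emb x2 * g 5 ^ 2)) by
                group, ← conj_zt hB]
            group
        _ = 1 := by rw [h3, mul_one, inv_mul_cancel]

/-- The twist as a homomorphism. -/
def twHom (hB : Bound) : Cfsg.Spor.HN →* Cfsg.Spor.HN :=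
  PresentedGroup.toGroup (f := fTw) (lift_eq_one fTw (fTw_rels hB))

theorem twHom_g (hB : Bound) : twHom hB (g 0) = g 0 ∧ twHom hB (g 2) = g 2 ∧
    twHom hB (g 4) = g 4 * emb x2 ∧ twHom hB (g 5) = g 5 ^ 2 :=
  ⟨PresentedGroup.toGroup.of _, PresentedGroup.toGroup.of _, PresentedGroup.toGroup.of _,
    PresentedGroup.toGroup.of _⟩

theorem twHom_four (hB : Bound) (y : Cfsg.Spor.HN) :
    twHom hB (twHom hB (twHom hB (twHom hB y))) = y := by
  have h : (twHom hB).comp ((twHom hB).comp ((twHom hB).comp (twHom hB))) =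
      MonoidHom.id Cfsg.Spor.HN := by
    obtain ⟨h0, h2, h4, h5⟩ := twHom_g hB
    have hx : twHom hB (emb x2) = emb x2 := by rw [emb_x2, map_mul, h0]
    have hxx : emb x2 * emb x2 = 1 := by rw [← map_mul, x2_mul_self hB, map_one]
    refine PresentedGroup.ext fun a => ?_
    cases a
    · show twHom hB (twHom hB (twHom hB (twHom hB (g 0)))) = g 0
      simp only [h0]
    · show twHom hB (twHom hB (twHom hB (twHom hB (g 2)))) = g 2
      simp only [h2]
    · show twHom hB (twHom hB (twHom hB (twHom hB (g 4)))) = g 4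
      simp only [h4, map_mul, hx, mul_assoc, hxx, mul_one]
    · show twHom hB (twHom hB (twHom hB (twHom hB (g 5)))) = g 5
      simp only [h5, map_pow, ← pow_mul]
      rw [← t_pow_mod]
      exact pow_one _
  exact DFunLike.congr_fun h y

/-- The twist. -/
def tw (hB : Bound) : MulAut Cfsg.Spor.HN where
  toFun := twHom hB
  invFun y := twHom hB (twHom hB (twHom hB y))
  left_inv := twHom_four hB
  right_inv := twHom_four hB
  map_mul' := map_mul _

theorem tw_g (hB : Bound) : tw hB (g 0) = g 0 ∧ tw hB (g 2) = g 2 ∧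
    tw hB (g 4) = g 4 * emb x2 ∧ tw hB (g 5) = g 5 ^ 2 := twHom_g hB

/-- Traces from the start along the powers of `t` and along two other words: steps, orbit, end. -/
def powTr : List (List (ℕ × List ℕ × ℕ) × ℕ × ℕ) := [
  ([(5, [], 0)], 1, 0),
  ([(5, [], 0), (5, [], 2)], 1, 2),
  ([(5, [], 0), (5, [], 2), (5, [], 1)], 1, 1),
  ([(5, [], 0), (5, [], 2), (5, [], 1), (5, [], 9)], 1, 9),
  ([(5, [], 0), (5, [], 2), (4, [], 42), (5, [], 1), (5, [], 5), (4, [], 0), (5, [], 1), (5, [], 9),
    (4, [], 329)], 4, 329),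
  ([(5, [], 0), (5, [], 2), (5, [], 1), (4, [], 41), (5, [], 0), (5, [], 42), (5, [], 1),
    (4, [], 41), (5, [3], 5), (5, [], 329), (5, [], 0), (4, [], 5)], 4, 5)]

theorem powTr_ok : (powTr.all fun e => Nat.blt e.2.1 9 && traceOk e.2.1 e.2.2 e.1 [] 0 0) = true := by
  decide +kernel

theorem powTr_words : powTr.map (fun e => (e.1.map Prod.fst, e.2.1)) =
    [([5], 1), ([5, 5], 1), ([5, 5, 5], 1), ([5, 5, 5, 5], 1), ([5, 5, 4, 5, 5, 4, 5, 5, 4], 4),
      ([5, 5, 5, 4, 5, 5, 5, 4, 5, 5, 5, 4], 4)] := by decide +kernel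

theorem powTr_pts : (List.range 4).all
    (fun k => Nat.beq (walk (dec (powTr.getD k ([], 0, 0)).2.2) 0) k) = true := by decide +kernel

theorem phi_powTr (hB : Bound) {k : ℕ} (hk : k < 6) :
    phi hB (prodw g ((powTr.getD k ([], 0, 0)).1.map Prod.fst))⁻¹ x0 =
      mk (oj (powTr.getD k ([], 0, 0)).2.1) (el (powTr.getD k ([], 0, 0)).2.2) := by
  set e := powTr.getD k ([], 0, 0) with he
  have hlen : k < powTr.length := hk
  have hok := List.all_eq_true.mp powTr_ok e (by
    rw [he, List.getD_eq_getElem _ _ hlen]; exact List.getElem_mem hlen)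
  simp only [Bool.and_eq_true, Nat.blt_eq] at hok
  have h := trace_sound hB hok.1 e.1 [] 0 0 (by norm_num) hok.2
  have hw : ∀ x ∈ e.1.map Prod.fst, x < 6 := by
    have : (powTr.all fun e => e.1.all fun s => Nat.blt s.1 6) = true := by decide +kernel
    intro x hx
    obtain ⟨s, hs, rfl⟩ := List.mem_map.mp hx
    exact Nat.blt_eq.mp (List.all_eq_true.mp (List.all_eq_true.mp this e (by
      rw [he, List.getD_eq_getElem _ _ hlen]; exact List.getElem_mem hlen)) s hs)
  rw [← h, ← prodw_V hB _ hw, map_inv, map_prodw]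
  congr 1
  congr 1
  exact prodw_congr fun x hx => phi_g hB (lt_trans (hw x hx) (by norm_num))

theorem mk_ne_x0 {j : Fin 9} (hj : j.val ≠ 0) (h : P) : mk j h ≠ x0 := fun e =>
  hj (congrArg (fun x : X => x.1.val) e)

theorem prodw_rep5 : ∀ k, prodw g (List.replicate k 5) = g 5 ^ k
  | 0 => by rw [pow_zero]; exact prodw_nil g
  | k + 1 => by rw [List.replicate_succ, prodw_cons, prodw_rep5 k, pow_succ']

theorem pow_t_pos (hB : Bound) {k : ℕ} (hk : k < 4) :
    ∃ h : P, (mv pi h 0).val = k ∧ phi hB (g 5 ^ (k + 1))⁻¹ x0 = mk 1 h := by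
  have hp := phi_powTr hB (k := k) (by omega)
  have hs : ∀ k < 4, (powTr.getD k ([], 0, 0)).1.map Prod.fst = List.replicate (k + 1) 5 ∧
      (powTr.getD k ([], 0, 0)).2.1 = 1 := by decide +kernel
  obtain ⟨h1, h2⟩ := hs k hk
  rw [h1, h2, prodw_rep5] at hp
  refine ⟨el (powTr.getD k ([], 0, 0)).2.2, ?_, hp⟩
  rw [mv_el]
  exact Nat.eq_of_beq_eq_true (List.all_eq_true.mp powTr_pts k (List.mem_range.mpr hk))

theorem g5_ne (hB : Bound) : g 5 ≠ 1 := by
  intro e
  obtain ⟨h, -, hp⟩ := pow_t_pos hB (k := 0) (by norm_num)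
  rw [e, one_pow, inv_one, map_one, Equiv.Perm.one_apply] at hp
  exact mk_ne_x0 (by decide) h hp.symm

theorem zt_pow_ne (hB : Bound) {m : ℕ} (hm : m = 2 ∨ m = 3) : (g 4 * g 5 ^ m) ^ 3 ≠ 1 := by
  intro e
  have e' : (g 5 ^ m * g 4) ^ 3 = 1 := by
    rw [show g 5 ^ m * g 4 = g 5 ^ m * (g 4 * g 5 ^ m) * (g 5 ^ m)⁻¹ by group, conj_pow, e, mul_one,
      mul_inv_cancel]
  rcases hm with rfl | rfl
  · have hp := phi_powTr hB (k := 4) (by norm_num)
    have hw : prodw g ((powTr.getD 4 ([], 0, 0)).1.map Prod.fst) = (g 5 ^ 2 * g 4) ^ 3 := by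
      show prodw g [5, 5, 4, 5, 5, 4, 5, 5, 4] = _
      simp [prodw, pow_succ, mul_assoc]
    rw [hw, e', inv_one, map_one, Equiv.Perm.one_apply] at hp
    exact mk_ne_x0 (show (oj 4).val ≠ 0 by decide) _ hp.symm
  · have hp := phi_powTr hB (k := 5) (by norm_num)
    have hw : prodw g ((powTr.getD 5 ([], 0, 0)).1.map Prod.fst) = (g 5 ^ 3 * g 4) ^ 3 := by
      show prodw g [5, 5, 5, 4, 5, 5, 5, 4, 5, 5, 5, 4] = _
      simp [prodw, pow_succ, mul_assoc]
    rw [hw, e', inv_one, map_one, Equiv.Perm.one_apply] at hp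
    exact mk_ne_x0 (show (oj 4).val ≠ 0 by decide) _ hp.symm

end

end CfsgLib.HNOut
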