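import Cfsg.Agent.HNOut.AutP
import Cfsg.Agent.HNOut.Twist
import Cfsg.Agent.SporadicOut.Criterion

/-!
The outer automorphism group of the Harada–Norton group has order two.
-/

set_option autoImplicit false
set_option Elab.async false
set_option maxRecDepth 100000
set_option linter.constructorNameAsVariable false

namespace CfsgLib.HNOut

open CfsgLib.CosetEnum CfsgLib.HNCert Cfsg.Spor

noncomputable section

theorem commute_uW {q : P} (h : ∀ u ∈ uW, Commute (emb q) (emb (prodw pg u))) (hB : Bound) :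
    q = 1 ∨ q = x2 := by
  obtain ⟨r, hr, he⟩ := cent_of_okCent hB okU (p := q) fun u hu => by
    refine emb_injective hB ?_
    rw [map_mul, map_mul]
    exact h u hu
  simp only [List.mem_cons, List.not_mem_nil, or_false] at hr
  rcases hr with rfl | rfl
  · exact Or.inl (he.trans (prodw_nil pg))
  · exact Or.inr he

theorem commute_t_of_fix (hB : Bound) {p : P} (hp : mv pi p 0 = 0) : Commute (g 5) (emb p) :=
  (commute_of_mem (mem_cenT_of_fix hB hp)).symm

/-- The generators of the group. -/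
def gen4 : Fin 4 → Cfsg.Spor.HN := ![g 0, g 2, g 4, g 5]

theorem closure_gen4 : Subgroup.closure (Set.range gen4) = ⊤ := by
  rw [eq_top_iff, ← PresentedGroup.closure_range_of, Subgroup.closure_le]
  rintro _ ⟨a, rfl⟩
  cases a
  exacts [Subgroup.subset_closure ⟨0, rfl⟩, Subgroup.subset_closure ⟨1, rfl⟩,
    Subgroup.subset_closure ⟨2, rfl⟩, Subgroup.subset_closure ⟨3, rfl⟩]

/-- An automorphism fixing `x, y, z` is conjugation by `1` or by `x²`. -/
theorem fix_t (hB : Bound) (χ : MulAut Cfsg.Spor.HN) (h0 : χ (g 0) = g 0) (h2 : χ (g 2) = g 2)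
    (h4 : χ (g 4) = g 4) : ∃ h : Cfsg.Spor.HN, ∀ i, h * χ (gen4 i) * h⁻¹ = gen4 i := by
  have := finite_HN hB
  have hP : ∀ p : P, χ (emb p) = emb p := by
    have : χ.toMonoidHom.comp emb = emb := by
      refine PresentedGroup.ext fun a => ?_
      cases a
      · show χ (emb (pg 0)) = emb (pg 0)
        rw [emb_pg (by norm_num), h0]
      · show χ (emb (pg 2)) = emb (pg 2)
        rw [emb_pg (by norm_num), h2]
      · show χ (emb (pg 4)) = emb (pg 4)
        rw [emb_pg (by norm_num), h4]
    exact DFunLike.congr_fun this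
  have hτ : ∀ p : P, mv pi p 0 = 0 → Commute (χ (g 5)) (emb p) := fun p hp => by
    have := (commute_t_of_fix hB hp).map χ.toMonoidHom
    rwa [show χ.toMonoidHom (emb p) = emb p from hP p] at this
  have hne : χ (g 5) ≠ 1 := fun e => g5_ne hB (χ.injective (e.trans (map_one χ).symm))
  have hord : χ (g 5) ^ 5 = 1 := by rw [← map_pow, t_pow_five, map_one]
  have hinvol : χ (g 5) * χ (g 5) ≠ 1 := fun e => hne (by
    calc χ (g 5) = χ (g 5) ^ 5 := by
          rw [pow_succ, show (4 : ℕ) = 2 * 2 from rfl, pow_mul, pow_two (χ (g 5)), e, one_pow, one_mul]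
      _ = 1 := hord)
  have hx2 : emb x2 * emb x2 = 1 := by rw [← map_mul, x2_mul_self hB, map_one]
  rcases pos_of_comm_stab hB hτ with h | ⟨h, hh, hpos⟩
  · obtain ⟨q, hq⟩ := mem_KH_of_fix hB h
    exfalso
    rcases commute_uW (q := q) (fun u hu => hq ▸ hτ _ (uW_mem hu)) hB with rfl | rfl
    · exact hne (by rw [← hq, map_one])
    · exact hinvol (by rw [← hq]; exact hx2)
  · set k := (mv pi h 0).val with hk
    obtain ⟨h', hh', hpow⟩ := pow_t_pos hB (k := k) hh
    have hfix : phi hB (g 5 ^ (k + 1) * χ (g 5)) x0 = x0 := by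
      rw [map_mul, Equiv.Perm.mul_apply, hpos, mk_one_eq hB (Fin.ext (hk.symm.trans hh'.symm) :
        mv pi h 0 = mv pi h' 0), ← hpow, ← Equiv.Perm.mul_apply, ← map_mul, mul_inv_cancel, map_one,
        Equiv.Perm.one_apply]
    obtain ⟨q, hq⟩ := mem_KH_of_fix hB hfix
    have hqc : ∀ u ∈ uW, Commute (emb q) (emb (prodw pg u)) := fun u hu => by
      rw [hq]
      exact ((commute_t_of_fix hB (uW_mem hu)).pow_left _).mul_left (hτ _ (uW_mem hu))
    have hτeq : χ (g 5) = (g 5 ^ (k + 1))⁻¹ * emb q := by rw [hq, inv_mul_cancel_left]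
    rcases commute_uW hqc hB with rfl | rfl
    · rw [map_one, mul_one] at hτeq
      have hτm : χ (g 5) = g 5 ^ (4 - k) := by
        rw [hτeq, inv_eq_iff_mul_eq_one, ← pow_add, show k + 1 + (4 - k) = 5 by omega, t_pow_five]
      have hz : (g 4 * g 5 ^ (4 - k)) ^ 3 = 1 := by
        rw [← hτm]
        conv_lhs => rw [← h4, ← map_mul, ← map_pow]
        have h3 := g_rel [4, 5, 4, 5, 4, 5] (by simp [relT])
        simp only [prodw, List.map_cons, List.map_nil, List.prod_cons, List.prod_nil, mul_one] at h3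
        rw [show (g 4 * g 5) ^ 3 = 1 by simpa [pow_succ, mul_assoc] using h3, map_one]
      have hk4 : k = 0 ∨ k = 3 := by
        by_contra hc
        push Not at hc
        exact zt_pow_ne hB (m := 4 - k) (by omega) hz
      rcases hk4 with hk0 | hk3
      · refine ⟨emb x2, fun i => ?_⟩
        rw [hk0] at hτm
        have hc : ∀ a < 5, emb x2 * g a * (emb x2)⁻¹ = g a := fun a ha => by
          rw [← emb_pg ha, ((x2_comm hB (pg a)).map emb).eq, mul_inv_cancel_right]
        fin_cases i
        · show emb x2 * χ (g 0) * (emb x2)⁻¹ = g 0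
          rw [h0, hc 0 (by norm_num)]
        · show emb x2 * χ (g 2) * (emb x2)⁻¹ = g 2
          rw [h2, hc 2 (by norm_num)]
        · show emb x2 * χ (g 4) * (emb x2)⁻¹ = g 4
          rw [h4, hc 4 (by norm_num)]
        · show emb x2 * χ (g 5) * (emb x2)⁻¹ = g 5
          rw [hτm, Nat.sub_zero, ← twist_t_x2]
          group
      · refine ⟨1, fun i => ?_⟩
        rw [hk3] at hτm
        rw [one_mul, inv_one, mul_one]
        fin_cases i
        exacts [h0, h2, h4, hτm.trans (pow_one _)]
    · exfalso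
      refine hinvol ?_
      have hi : emb x2 * (g 5 ^ (k + 1))⁻¹ * emb x2 = g 5 ^ (k + 1) := by
        have hinv : (emb x2)⁻¹ = emb x2 := inv_eq_of_mul_eq_one_right hx2
        have hx : emb x2 * g 5 * emb x2 = (g 5)⁻¹ := by
          have := twist_t_x2
          rw [hinv] at this
          rw [this, eq_inv_iff_mul_eq_one, ← pow_succ, t_pow_five]
        have hx' : emb x2 * g 5 ^ (k + 1) * emb x2 = (g 5 ^ (k + 1))⁻¹ := by
          have := (conj_pow (i := k + 1) (a := emb x2) (b := g 5)).symm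
          rw [hinv] at this
          rw [this, hx, inv_pow]
        rw [← hx']
        simp only [← mul_assoc, hx2, one_mul]
        rw [mul_assoc, hx2, mul_one]
      rw [hτeq, mul_assoc, ← mul_assoc (emb x2), hi, inv_mul_cancel]

theorem exists_conj_x2 (hB : Bound) (φ : MulAut Cfsg.Spor.HN) :
    ∃ c : Cfsg.Spor.HN, c * φ (emb x2) * c⁻¹ = emb x2 := by
  have := finite_HN hB
  have : Fact (Nat.Prime 11) := ⟨by norm_num⟩
  have hos : orderOf (emb s11) = 11 :=
    (orderOf_injective emb (emb_injective hB) s11).trans (orderOf_s11 hB)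
  have hor : orderOf (φ (emb s11)) = 11 := (MulEquiv.orderOf_eq φ _).trans hos
  obtain ⟨c, hc⟩ := conj_mem_zpowers_of_prime (p := 11) (by rw [card_HN hB]; norm_num) hor hos
  refine ⟨c, ?_⟩
  set v := c * φ (emb x2) * c⁻¹ with hv
  have hcomm : Commute v (c * φ (emb s11) * c⁻¹) :=
    ((((x2_comm hB s11).map emb).map φ.toMonoidHom).map (MulAut.conj c).toMonoidHom)
  rw [← mem_powers_iff_mem_zpowers, Submonoid.mem_powers_iff] at hc
  obtain ⟨k, hk⟩ := hc
  have hk0 : ¬ 11 ∣ k := by
    rintro ⟨m, rfl⟩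
    rw [pow_mul, ← hos, pow_orderOf_eq_one, one_pow] at hk
    have h1 : φ (emb s11) = 1 := by simpa [mul_inv_eq_one] using hk.symm
    rw [h1, orderOf_one] at hor
    norm_num at hor
  have hm : ∀ k < 11, k ≠ 0 → ∃ m < 11, k * m % 11 = 1 := by decide +kernel
  obtain ⟨m, -, hm⟩ := hm (k % 11) (Nat.mod_lt _ (by norm_num))
    fun h => hk0 (Nat.dvd_of_mod_eq_zero h)
  have hs : Commute v (emb s11) := by
    have h1 : (emb s11 ^ k) ^ m = emb s11 := by
      rw [← pow_mul, ← pow_mod_orderOf, hos, ← Nat.mod_mul_mod, hm, pow_one]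
    rw [← h1, hk]
    exact hcomm.pow_right m
  obtain ⟨q, hq⟩ := mem_KH_of_comm_s11 hB hs
  have hqs : Commute q s11 := by
    refine emb_injective hB ?_
    rw [map_mul, map_mul, hq]
    exact hs
  obtain ⟨r, hr, hre⟩ := cent_of_okCent hB okS11 (p := q) fun w hw => by
    rw [List.mem_singleton.mp hw]; exact hqs
  have hsq : q * q = 1 := by
    refine emb_injective hB ?_
    rw [map_mul, map_one, hq, hv]
    calc c * φ (emb x2) * c⁻¹ * (c * φ (emb x2) * c⁻¹) = c * φ (emb (x2 * x2)) * c⁻¹ := by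
          rw [map_mul emb, map_mul φ]; group
      _ = 1 := by rw [x2_mul_self hB, map_one, map_one]; group
  have hne : q ≠ 1 := by
    rintro rfl
    rw [map_one] at hq
    refine x2_ne (emb_injective hB (φ.injective ?_))
    rw [map_one, map_one]
    have := hq.symm
    rwa [hv, mul_inv_eq_one, mul_eq_left] at this
  have hinv : (cS.all fun r => !same (r ++ r) [] || (same r [] || same r [0, 0])) = true := by
    decide +kernel
  have hr5 := cS_lt r hr
  have h := List.all_eq_true.mp hinv r hr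
  rw [same_of_eq (app_lt hr5 hr5) (by simp) (by rw [prodw_append, ← hre, hsq, prodw_nil]),
    Bool.not_true, Bool.false_or, Bool.or_eq_true] at h
  rcases h with h | h
  · exact absurd (hre.trans ((eq_of_same hB hr5 (by simp) h).trans (prodw_nil pg))) hne
  · rw [← hq, hre, eq_of_same hB hr5 (by simp) h]
    rfl

theorem card_out (hB : Bound) : Nat.card (Cfsg.Out Cfsg.Spor.HN) = 2 := by
  have := finite_HN hB
  obtain ⟨t0, t2, t4, t5⟩ := tw_g hB
  refine CfsgLib.SporadicOut.card_out_eq_two gen4 closure_gen4 (tw hB) (fun φ => ?_) (fun c => ?_)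
  · obtain ⟨c1, hc1⟩ := exists_conj_x2 hB φ
    have hK : ∀ p : P, c1 * φ (emb p) * c1⁻¹ ∈ KH := fun p => by
      refine mem_KH_of_comm_x2 hB ?_
      rw [← hc1]
      exact (((x2_comm hB p).symm.map emb).map φ.toMonoidHom).map (MulAut.conj c1).toMonoidHom
    let e : P ≃* KH := MonoidHom.ofInjective (emb_injective hB)
    let ψ : P →* P := e.symm.toMonoidHom.comp
      ((((MulAut.conj c1).toMonoidHom.comp φ.toMonoidHom).comp emb).codRestrict KH hK)
    have hψ : ∀ p, emb (ψ p) = c1 * φ (emb p) * c1⁻¹ := fun p =>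
      congrArg Subtype.val (e.apply_symm_apply ⟨_, hK p⟩)
    have hinj : Function.Injective ψ := fun a b hab => by
      have := congrArg emb hab
      rw [hψ, hψ] at this
      exact emb_injective hB (φ.injective (mul_left_cancel (mul_right_cancel this)))
    obtain ⟨p, ⟨hp0, hp2⟩, hp4⟩ := autP hB ψ hinj
    set c2 := emb p * c1 with hc2
    have hgen : ∀ a, a < 5 → c2 * φ (g a) * c2⁻¹ = emb (p * ψ (pg a) * p⁻¹) := fun a ha => by
      rw [map_mul, map_mul, map_inv, hψ, emb_pg ha, hc2]
      group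
    have e0 : c2 * φ (g 0) * c2⁻¹ = g 0 := by
      rw [hgen 0 (by norm_num), hp0, emb_pg (by norm_num)]
    have e2 : c2 * φ (g 2) * c2⁻¹ = g 2 := by
      rw [hgen 2 (by norm_num), hp2, emb_pg (by norm_num)]
    rcases hp4 with h | h
    · have e4 : c2 * φ (g 4) * c2⁻¹ = g 4 := by
        rw [hgen 4 (by norm_num), h, emb_pg (by norm_num)]
      obtain ⟨d, hd⟩ := fix_t hB (MulAut.conj c2 * φ) e0 e2 e4
      refine ⟨d * c2, Or.inl fun i => ?_⟩
      conv_rhs => rw [← hd i]
      show d * c2 * φ (gen4 i) * (d * c2)⁻¹ = d * (c2 * φ (gen4 i) * c2⁻¹) * d⁻¹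
      group
    · have e4 : c2 * φ (g 4) * c2⁻¹ = g 4 * emb x2 := by
        rw [hgen 4 (by norm_num), h, map_mul, emb_pg (by norm_num)]
      obtain ⟨d, hd⟩ := fix_t hB ((tw hB)⁻¹ * (MulAut.conj c2 * φ))
        (show (tw hB).symm (c2 * φ (g 0) * c2⁻¹) = g 0 by rw [e0, MulEquiv.symm_apply_eq, t0])
        (show (tw hB).symm (c2 * φ (g 2) * c2⁻¹) = g 2 by rw [e2, MulEquiv.symm_apply_eq, t2])
        (show (tw hB).symm (c2 * φ (g 4) * c2⁻¹) = g 4 by rw [e4, MulEquiv.symm_apply_eq, t4])
      refine ⟨tw hB d * c2, Or.inr fun i => ?_⟩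
      conv_rhs => rw [← hd i]
      show tw hB d * c2 * φ (gen4 i) * (tw hB d * c2)⁻¹ = tw hB (d * (tw hB).symm (c2 * φ (gen4 i) * c2⁻¹) * d⁻¹)
      rw [map_mul, map_mul, map_inv, MulEquiv.apply_symm_apply]
      group
  · by_contra hall
    push Not at hall
    have i0 : c * g 0 * c⁻¹ = g 0 := (hall 0).trans t0
    have i2 : c * g 2 * c⁻¹ = g 2 := (hall 1).trans t2
    have i4 : c * g 4 * c⁻¹ = g 4 * emb x2 := (hall 2).trans t4
    have c0 : Commute c (g 0) := mul_inv_eq_iff_eq_mul.mp i0
    have c2 : Commute c (g 2) := mul_inv_eq_iff_eq_mul.mp i2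
    obtain ⟨q, hq⟩ := mem_KH_of_comm_x2 hB (c := c) (by rw [emb_x2]; exact c0.mul_right c0)
    have hw : ∀ w : List ℕ, (∀ x ∈ w, x < 4) → Commute c (prodw g w) := by
      intro w
      induction w with
      | nil => intro _; rw [prodw_nil]; exact Commute.one_right c
      | cons a w ih =>
        intro ha
        rw [prodw_cons]
        refine Commute.mul_right ?_ (ih fun x hx => ha x (List.mem_cons_of_mem _ hx))
        have := ha a List.mem_cons_self
        interval_cases a
        exacts [c0, c0.inv_right, c2, c2.inv_right]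
    have hu4 : ∀ u ∈ uW, ∀ x ∈ u, x < 4 := by decide +kernel
    have hqu : ∀ u ∈ uW, Commute (emb q) (emb (prodw pg u)) := fun u hu => by
      rw [hq, emb_prodw (uW_lt u hu)]
      exact hw u (hu4 u hu)
    have hcz : c * g 4 * c⁻¹ = g 4 := by
      rcases commute_uW hqu hB with rfl | rfl
      · rw [← hq, map_one]; group
      · rw [← hq, ← emb_pg (by norm_num : 4 < 5), ((x2_comm hB (pg 4)).map emb).eq,
          mul_inv_cancel_right]
    rw [hcz, eq_comm, mul_eq_left, ← map_one emb] at i4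
    exact x2_ne (emb_injective hB i4)

end

end CfsgLib.HNOut
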