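import Cfsg.Agent.HNOut.Data

/-!
The three searches succeed.
-/

set_option autoImplicit false
set_option Elab.async false
set_option maxRecDepth 100000

namespace CfsgLib.HNOut

open CfsgLib.HNCert

theorem okS11 : okCent [sW] cS lvS = true := by decide +kernel

theorem okB2 : okCent [bW ++ bW] cB lvB = true := by decide +kernel

theorem okU : okCent uW [[], [0, 0]] lvU = true := by decide +kernel

end CfsgLib.HNOut
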