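import Cfsg.Agent.HNCert.Simple
import Cfsg.Agent.HNOut.Searches

/-!
Centralisers in the Harada–Norton group of the central involution of `P`, of an element of order
eleven and of the stabiliser of a point, from the action on positions.
-/

set_option autoImplicit false
set_option Elab.async false
set_option maxRecDepth 100000

namespace CfsgLib.HNOut

open CfsgLib.CosetEnum CfsgLib.HNCert

noncomputable section

/-- The central involution of `P`. -/
def x2 : P := prodw pg [0, 0]

/-- An element of order eleven. -/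
def s11 : P := prodw pg sW

theorem walk_eq_of_eq {u v : List ℕ} (hu : ∀ x ∈ u, x < 5) (hv : ∀ x ∈ v, x < 5)
    (h : prodw pg u = prodw pg v) {q : ℕ} (hq : q < 1408) : walk u q = walk v q := by
  have e1 := mv_prodw hu (pt q)
  have e2 := mv_prodw hv (pt q)
  rw [pt_val hq] at e1 e2
  rw [← e1, ← e2, h]

theorem same_of_eq {u v : List ℕ} (hu : ∀ x ∈ u, x < 5) (hv : ∀ x ∈ v, x < 5)
    (h : prodw pg u = prodw pg v) : same u v = true := by
  rw [same, walk4_eq, walk4_eq, walk_eq_of_eq hu hv h (q := 0) (by norm_num),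
    walk_eq_of_eq hu hv h (q := 208) (by norm_num), walk_eq_of_eq hu hv h (q := 252) (by norm_num),
    walk_eq_of_eq hu hv h (q := 1336) (by norm_num)]
  exact Nat.beq_refl _

theorem x2_comm (hB : Bound) (p : P) : Commute x2 p := by
  have hgen : ∀ a < 5, Commute x2 (pg a) := by
    intro a ha
    have hs : ∀ a < 5, same ([0, 0] ++ [a]) ([a] ++ [0, 0]) = true := by decide +kernel
    have e := eq_of_same hB (app_lt (by simp) (by simpa using ha))
      (app_lt (by simpa using ha) (by simp)) (hs a ha)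
    rw [prodw_append, prodw_append, prodw_cons pg a [], prodw_nil, mul_one] at e
    exact e
  have htop : (⊤ : Subgroup P) ≤ Subgroup.centralizer {x2} := by
    rw [← PresentedGroup.closure_range_of, Subgroup.closure_le]
    rintro _ ⟨a, rfl⟩
    cases a
    exacts [Subgroup.mem_centralizer_singleton_iff.mpr (hgen 0 (by norm_num)).symm,
      Subgroup.mem_centralizer_singleton_iff.mpr (hgen 2 (by norm_num)).symm,
      Subgroup.mem_centralizer_singleton_iff.mpr (hgen 4 (by norm_num)).symm]
  exact (Subgroup.mem_centralizer_singleton_iff.mp (htop (Subgroup.mem_top p))).symm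

theorem x2_ne : x2 ≠ 1 := by
  intro h
  have hs := same_of_eq (u := [0, 0]) (v := []) (by simp) (by simp) (h.trans (prodw_nil pg).symm)
  exact absurd hs (by decide +kernel)

theorem x2_mul_self (hB : Bound) : x2 * x2 = 1 := by
  rw [x2, ← prodw_append, ← prodw_nil pg]
  exact eq_of_same hB (by simp) (by simp) (by decide +kernel)

theorem center_hn (hB : Bound) {c : Cfsg.Spor.HN} (hc : ∀ y, Commute c y) : c = 1 := by
  have := finite_HN hB
  have : IsSimpleGroup Cfsg.Spor.HN := (isHN hB).1
  have hmem : c ∈ Subgroup.center Cfsg.Spor.HN :=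
    Subgroup.mem_center_iff.mpr fun y => (hc y).symm.eq
  rcases IsSimpleGroup.eq_bot_or_eq_top_of_normal (Subgroup.center Cfsg.Spor.HN) inferInstance with
    h | h
  · rwa [h, Subgroup.mem_bot] at hmem
  · exfalso
    let _ : CommGroup Cfsg.Spor.HN := Group.commGroupOfCenterEqTop h
    have hp := IsSimpleGroup.prime_card (α := Cfsg.Spor.HN)
    rw [card_HN hB] at hp
    rw [show 273030912000000 = 2 * 136515456000000 by norm_num] at hp
    exact Nat.not_prime_mul (by norm_num) (by norm_num) hp

theorem pos_conj (hB : Bound) {c : Cfsg.Spor.HN} {p : P} (h : Commute c (emb p)) :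
    rho p (phi hB c x0) = phi hB c x0 := by
  rw [← phi_emb hB, ← Equiv.Perm.mul_apply, ← map_mul, ← h.eq, map_mul, Equiv.Perm.mul_apply,
    phi_emb, rho_x0]

theorem mem_M_of_fix {j : Fin 9} {a p : P}
    (h : rho p (⟨j, (a : P ⧸ M j.val)⟩ : X) = ⟨j, (a : P ⧸ M j.val)⟩) :
    a⁻¹ * p * a ∈ M j.val := by
  have e : ((⟨j, p • (a : P ⧸ M j.val)⟩ : X)) = ⟨j, (a : P ⧸ M j.val)⟩ := h
  have e' := eq_of_heq (Sigma.mk.inj_iff.mp e).2
  rw [MulAction.Quotient.smul_coe, smul_eq_mul, QuotientGroup.eq] at e'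
  have := inv_mem e'
  simpa [mul_assoc] using this

theorem eq_x0 {j : Fin 9} (hj : j.val = 0) (q : P ⧸ M j.val) : (⟨j, q⟩ : X) = x0 := by
  obtain rfl : j = 0 := Fin.ext hj
  refine Sigma.ext rfl (heq_of_eq ?_)
  induction q using QuotientGroup.induction_on with
  | _ a =>
    show (a : P ⧸ M ((0 : Fin 9).val)) = ((1⁻¹ : P) : P ⧸ M ((0 : Fin 9).val))
    rw [QuotientGroup.eq, show M ((0 : Fin 9).val) = ⊤ from M_zero]
    exact Subgroup.mem_top _

theorem mem_KH_of_comm_x2 (hB : Bound) {c : Cfsg.Spor.HN} (hc : Commute c (emb x2)) : c ∈ KH := by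
  classical
  have := hB.1
  have := finite_HN hB
  have hfX : Finite X := Nat.finite_of_card_ne_zero (by rw [card_X hB]; norm_num)
  let C : Subgroup Cfsg.Spor.HN := Subgroup.centralizer {emb x2}
  have hKC : ∀ p : P, emb p ∈ C := fun p =>
    Subgroup.mem_centralizer_singleton_iff.mpr ((x2_comm hB p).symm.map emb)
  let _ : MulAction C X := MulAction.compHom _ ((phi hB).comp C.subtype)
  have hst : MulAction.stabilizer C x0 = KH.subgroupOf C := by
    ext y
    rw [MulAction.mem_stabilizer_iff, Subgroup.mem_subgroupOf]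
    refine ⟨fun h => mem_KH_of_fix hB h, ?_⟩
    rintro ⟨p, hp⟩
    show phi hB (y : Cfsg.Spor.HN) x0 = x0
    rw [← hp, phi_emb, rho_x0]
  set B := MulAction.orbit C x0 with hBdef
  have hcard : B.ncard * Nat.card KH = Nat.card C := by
    rw [← MulAction.index_stabilizer, hst,
      ← Nat.card_congr (Subgroup.subgroupOfEquivOfLe (show KH ≤ C by
        rintro _ ⟨p, rfl⟩; exact hKC p)).toEquiv]
    exact Subgroup.index_mul_card _
  have hdvd : B.ncard ∣ 1539000 := by
    have h1 : B.ncard * 177408000 ∣ 1539000 * 177408000 := by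
      rw [← card_KH hB, hcard]
      refine (Subgroup.card_subgroup_dvd_card C).trans ?_
      rw [card_HN hB, card_KH hB]
    exact Nat.dvd_of_mul_dvd_mul_right (by norm_num) h1
  have hfib : ∀ (j : Fin 9) (q q' : P ⧸ M j.val), (⟨j, q⟩ : X) ∈ B → (⟨j, q'⟩ : X) ∈ B := by
    intro j q q' h
    induction q using QuotientGroup.induction_on with
    | _ a =>
      induction q' using QuotientGroup.induction_on with
      | _ b =>
        obtain ⟨y, hy⟩ := h
        refine ⟨⟨emb (b * a⁻¹), hKC _⟩ * y, ?_⟩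
        show phi hB (emb (b * a⁻¹) * (y : Cfsg.Spor.HN)) x0 = _
        rw [map_mul, Equiv.Perm.mul_apply, show phi hB (y : Cfsg.Spor.HN) x0 = _ from hy, phi_emb]
        show (⟨j, (b * a⁻¹) • (a : P ⧸ M j.val)⟩ : X) = _
        rw [MulAction.Quotient.smul_coe, smul_eq_mul, inv_mul_cancel_right]
  let J : Finset (Fin 9) := Finset.univ.filter fun j => ∃ q, (⟨j, q⟩ : X) ∈ B
  have hmem : ∀ x : X, x ∈ B ↔ x.1 ∈ J := by
    rintro ⟨j, q⟩
    simp only [J, Finset.mem_filter, Finset.mem_univ, true_and]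
    exact ⟨fun h => ⟨q, h⟩, fun ⟨q', h⟩ => hfib j q' q h⟩
  have hncard : B.ncard = ∑ j ∈ J, sSize j.val := by
    have : ∀ j : Fin 9, Fintype (P ⧸ M j.val) := fun j => Fintype.ofFinite _
    have hset : B = ↑(J.sigma fun j => (Finset.univ : Finset (P ⧸ M j.val))) := by
      ext x
      rw [Finset.mem_coe, Finset.mem_sigma]
      exact (hmem x).trans ⟨fun h => ⟨h, Finset.mem_univ _⟩, fun h => h.1⟩
    rw [hset, Set.ncard_coe_finset, Finset.card_sigma]
    refine Finset.sum_congr rfl fun j _ => ?_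
    rw [Finset.card_univ, ← Nat.card_eq_fintype_card]
    exact index_M hB j.isLt
  rw [hncard] at hdvd
  rcases suborbit_arith J ((hmem x0).mp (MulAction.mem_orbit_self _)) hdvd with h | h
  · refine mem_KH_of_fix hB ?_
    have h1 : phi hB c x0 ∈ B :=
      ⟨⟨c, Subgroup.mem_centralizer_singleton_iff.mpr hc⟩, rfl⟩
    rw [hmem, h, Finset.mem_singleton] at h1
    generalize phi hB c x0 = y at h1
    obtain ⟨j, q⟩ := y
    exact eq_x0 (congrArg Fin.val h1) q
  · exfalso
    refine x2_ne (emb_injective hB ?_)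
    rw [map_one]
    refine center_hn hB fun y => ?_
    have hall : ∀ x : X, x ∈ B := fun x => (hmem x).mpr (h ▸ Finset.mem_univ _)
    obtain ⟨y', hy'⟩ := hall (phi hB y x0)
    have hk : (y' : Cfsg.Spor.HN)⁻¹ * y ∈ KH := mem_KH_of_fix hB (by
      rw [map_mul, map_inv, Equiv.Perm.mul_apply, Equiv.Perm.inv_eq_iff_eq]
      exact hy'.symm)
    obtain ⟨p, hp⟩ := hk
    have hy : y = (y' : Cfsg.Spor.HN) * emb p := by rw [hp, mul_inv_cancel_left]
    rw [hy]
    have h1 : Commute (emb x2) (y' : Cfsg.Spor.HN) :=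
      (Subgroup.mem_centralizer_singleton_iff.mp y'.2).symm
    exact h1.mul_right ((x2_comm hB p).map emb)

theorem s11_pow (hB : Bound) : s11 ^ 11 = 1 := by
  have hw : ∀ x ∈ (List.replicate 11 sW).flatten, x < 5 := by decide +kernel
  have e := eq_of_same hB hw (by simp) (show same (List.replicate 11 sW).flatten [] = true by
    decide +kernel)
  have hrep : ∀ (w : List ℕ) (n : ℕ),
      prodw pg (List.replicate n w).flatten = prodw pg w ^ n := by
    intro w n
    induction n with
    | zero => simp [prodw_nil]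
    | succ n ih => rw [List.replicate_succ, List.flatten_cons, prodw_append, ih, pow_succ']
  rw [hrep, prodw_nil] at e
  exact e

theorem sW_lt : ∀ x ∈ sW, x < 5 := by decide +kernel

theorem s11_ne : s11 ≠ 1 := by
  intro h
  have hs := same_of_eq sW_lt (v := []) (by simp) (h.trans (prodw_nil pg).symm)
  exact absurd hs (by decide +kernel)

theorem orderOf_s11 (hB : Bound) : orderOf s11 = 11 :=
  haveI : Fact (Nat.Prime 11) := ⟨by norm_num⟩
  orderOf_eq_prime (s11_pow hB) s11_ne

/-- An element commuting with the element of order eleven lies in `KH`. -/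
theorem mem_KH_of_comm_s11 (hB : Bound) {c : Cfsg.Spor.HN} (hc : Commute c (emb s11)) :
    c ∈ KH := by
  have := hB.1
  refine mem_KH_of_fix hB ?_
  have h := pos_conj hB hc
  generalize phi hB c x0 = y at h
  obtain ⟨j, q⟩ := y
  induction q using QuotientGroup.induction_on with
  | _ a =>
    refine eq_x0 ?_ _
    by_contra hj
    have hm := mem_M_of_fix h
    have h11 : 11 ∣ Nat.card (M j.val) := by
      have h2 := Subgroup.orderOf_dvd_natCard _ hm
      rwa [show a⁻¹ * s11 * a = MulAut.conj a⁻¹ s11 by simp, MulEquiv.orderOf_eq,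
        orderOf_s11 hB] at h2
    have key : ∀ j < 9, 0 < j → ¬ sSize j * 11 ∣ 177408000 := by decide +kernel
    refine key j.val j.isLt (Nat.pos_of_ne_zero hj) ?_
    rw [← card_M hB j.isLt]
    exact Nat.mul_dvd_mul_left _ h11

theorem stab_le_M1 (hB : Bound) {p : P} (hp : mv pi p (pt 0) = pt 0) : p ∈ M 1 := by
  have := hB.1
  let S0 : Subgroup P :=
    { carrier := {p | mv pi p (pt 0) = pt 0}
      one_mem' := mv_one pi _
      mul_mem' := fun {a b} ha hb => by
        show mv pi (a * b) (pt 0) = pt 0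
        rw [mv_mul, show mv pi a (pt 0) = pt 0 from ha]; exact hb
      inv_mem' := fun {a} ha => fix_inv ha }
  have hle : M 1 ≤ S0 := fun m hm => fix_M_one hm
  have hidx : 1408 ≤ S0.index := by
    let f : P ⧸ S0 → Fin 1408 := fun q => Quotient.liftOn' q (fun a => mv pi a⁻¹ (pt 0))
      fun a b hab => by
        have hmem : mv pi (a⁻¹ * b) (pt 0) = pt 0 := QuotientGroup.leftRel_apply.mp hab
        refine mv_inj pi b ?_
        rw [← mv_mul, ← mv_mul, hmem, inv_mul_cancel, mv_one]
    have hf : Function.Surjective f := fun b => by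
      obtain ⟨h, hh⟩ := exists_move_zero b
      refine ⟨((h⁻¹ : P) : P ⧸ S0), ?_⟩
      show mv pi h⁻¹⁻¹ (pt 0) = b
      rw [inv_inv, hh]
    have := Nat.card_le_card_of_surjective f hf
    rwa [Nat.card_fin, ← Subgroup.index_eq_card] at this
  have h1 := Subgroup.card_mul_index S0
  rw [card_P hB] at h1
  have h2 := card_M hB (show 1 < 9 by norm_num)
  rw [show sSize 1 = 1408 from rfl] at h2
  have hcle : Nat.card S0 ≤ Nat.card (M 1) := by
    by_contra hlt
    push Not at hlt
    have : Nat.card (M 1) * 1408 < Nat.card S0 * S0.index :=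
      Nat.lt_of_lt_of_le (Nat.mul_lt_mul_of_pos_right hlt (by norm_num)) (Nat.mul_le_mul_left _ hidx)
    omega
  rw [Subgroup.eq_of_le_of_card_ge hle hcle]
  exact hp

theorem uW_fix : (uW.all fun u => Nat.beq (walk u 0) 0) = true ∧
    ((List.range 1408).all fun q => !(uW.all fun u => Nat.beq (walk u q) q) || Nat.blt q 4) = true := by
  decide +kernel

theorem uW_lt : ∀ u ∈ uW, ∀ x ∈ u, x < 5 := by decide +kernel

theorem uW_mem {u : List ℕ} (hu : u ∈ uW) : mv pi (prodw pg u) 0 = 0 := by
  refine Fin.ext ?_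
  rw [mv_prodw (uW_lt u hu)]
  exact Nat.eq_of_beq_eq_true (List.all_eq_true.mp uW_fix.1 u hu)

/-- What commutes with the stabiliser of the point `0` moves the start to one of five positions. -/
theorem pos_of_comm_stab (hB : Bound) {c : Cfsg.Spor.HN}
    (hc : ∀ p : P, mv pi p 0 = 0 → Commute c (emb p)) :
    phi hB c x0 = x0 ∨ ∃ h : P, (mv pi h 0).val < 4 ∧ phi hB c x0 = mk 1 h := by
  have := hB.1
  have h : ∀ p : P, mv pi p 0 = 0 → rho p (phi hB c x0) = phi hB c x0 :=
    fun p hp => pos_conj hB (hc p hp)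
  generalize phi hB c x0 = y at h ⊢
  obtain ⟨j, q⟩ := y
  induction q using QuotientGroup.induction_on with
  | _ a =>
    have hm : ∀ p ∈ M 1, a⁻¹ * p * a ∈ M j.val := fun p hp => mem_M_of_fix (h p (fix_M_one hp))
    have hcle : Nat.card (M 1) ≤ Nat.card (M j.val) :=
      Nat.card_le_card_of_injective (fun p : M 1 => (⟨_, hm p p.2⟩ : M j.val)) fun p q e =>
        Subtype.ext (by simpa using congrArg Subtype.val e)
    have hj : j.val ≤ 1 := by
      have key : ∀ j < 9, sSize j ≤ 1408 → j ≤ 1 := by decide +kernel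
      refine key j.val j.isLt (Nat.le_of_mul_le_mul_right ?_ (Nat.card_pos (α := M 1)))
      calc sSize j.val * Nat.card (M 1) ≤ sSize j.val * Nat.card (M j.val) :=
            Nat.mul_le_mul_left _ hcle
        _ = sSize 1 * Nat.card (M 1) := by rw [card_M hB j.isLt, card_M hB (by norm_num)]
        _ = 1408 * Nat.card (M 1) := rfl
    rcases Nat.le_one_iff_eq_zero_or_eq_one.mp hj with hj0 | hj1
    · exact Or.inl (eq_x0 hj0 _)
    · right
      obtain rfl : j = 1 := Fin.ext hj1
      refine ⟨a⁻¹, ?_, by rw [mk, inv_inv]⟩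
      have hfix : ∀ u ∈ uW, mv pi (prodw pg u) (mv pi a⁻¹ 0) = mv pi a⁻¹ 0 := by
        intro u hu
        have h1 : mv pi (a⁻¹ * prodw pg u * a) (pt 0) = pt 0 :=
          fix_M_one (hm _ (stab_le_M1 hB (uW_mem hu)))
        rw [mv_mul, mv_mul] at h1
        have h2 := congrArg (mv pi a⁻¹) h1
        rw [← mv_mul pi a, mul_inv_cancel, mv_one] at h2
        exact h2
      have hq := List.all_eq_true.mp uW_fix.2 (mv pi a⁻¹ 0).val (List.mem_range.mpr (Fin.isLt _))
      have hall : (uW.all fun u =>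
          Nat.beq (walk u (mv pi a⁻¹ 0).val) (mv pi a⁻¹ 0).val) = true := by
        refine List.all_eq_true.mpr fun u hu => ?_
        rw [← mv_prodw (uW_lt u hu), hfix u hu]
        exact Nat.beq_refl _
      rw [hall, Bool.not_true, Bool.false_or] at hq
      exact Nat.blt_eq.mp hq

theorem mk_one_eq (hB : Bound) {h h' : P} (e : mv pi h 0 = mv pi h' 0) :
    mk 1 h = mk 1 h' := by
  refine mk_eq (stab_le_M1 hB ?_)
  show mv pi (h' * h⁻¹) 0 = 0
  rw [mv_mul, ← e, ← mv_mul, mul_inv_cancel, mv_one]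

end

end CfsgLib.HNOut
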