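import Cfsg.Agent.HNCert.Upper

/-!
Searches for the elements of `P` which commute with given words, along a stabiliser chain whose base
points are roots or translates of earlier base points by those words.
-/

set_option autoImplicit false
set_option Elab.async false
set_option maxRecDepth 100000

namespace CfsgLib.HNOut

open CfsgLib.CosetEnum CfsgLib.HNCert

noncomputable section

/-- A level: the base point, whether it is a root, the earlier level it comes from, words in the
given elements (fixing a root, or carrying the earlier point to this one) and the transversal as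
pairs of a point and a word number. -/
structure SLvl where
  b : ℕ
  root : Bool
  src : ℕ
  vs : List (List ℕ)
  T : List (ℕ × ℕ)

/-- A word in the given elements. -/
def gw (W : List (List ℕ)) (L : List ℕ) : List ℕ := L.flatMap fun i => W.getD i []

/-- Keys increase strictly. -/
def incr : List (ℕ × ℕ) → Bool
  | [] => true
  | [_] => true
  | a :: b :: l => Nat.blt a.1 b.1 && incr (b :: l)

/-- The check of the levels; `prev` lists the earlier base points. -/
def okLvls (W : List (List ℕ)) : List SLvl → List ℕ → Bool
  | [], _ => true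
  | l :: D, prev => Nat.blt l.b 1408 && (incr l.T &&
      ((l.T.all fun e => Nat.beq (walk (dec e.2) l.b) e.1) &&
        ((D.all fun d => d.T.all fun e => Nat.beq (walk (dec e.2) l.b) l.b) &&
          ((bif l.root then l.vs.all (fun v => Nat.beq (walk (gw W v) l.b) l.b)
            else Nat.blt l.src prev.length &&
              Nat.beq (walk (gw W (l.vs.headD [])) (prev.getD l.src 0)) l.b) &&
            okLvls W D (prev ++ [l.b])))))

/-- All letters are free of `t`. -/
def okW (W : List (List ℕ)) : Bool := W.all fun w => w.all fun x => Nat.blt x 5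

/-- The word at the end of a search commutes only if it is listed. -/
def leaf (W R : List (List ℕ)) (acc : List ℕ) : Bool :=
  !(W.all fun g => same (acc ++ g) (g ++ acc)) || R.any fun r => same acc r

/-- The search below a candidate image. -/
def step (l : SLvl) (k : List ℕ → List ℕ → Bool) (ims acc : List ℕ) (q : ℕ) : Bool :=
  force (walk (wi acc) q) fun q' =>
    match l.T.find? (fun e => Nat.beq e.1 q') with
    | none => true
    | some e => k (ims ++ [q]) (dec e.2 ++ acc)

/-- The search. -/
def search (W R : List (List ℕ)) : List SLvl → List ℕ → List ℕ → Bool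
  | [], _, acc => leaf W R acc
  | l :: D, ims, acc =>
    bif l.root then
      (List.range 1408).all fun q =>
        !(l.vs.all fun v => Nat.beq (walk (gw W v) q) q) || step l (search W R D) ims acc q
    else step l (search W R D) ims acc (walk (gw W (l.vs.headD [])) (ims.getD l.src 0))

/-- The whole check. -/
def okCent (W R : List (List ℕ)) (D : List SLvl) : Bool :=
  okW W && (R.all (fun r => r.all fun x => Nat.blt x 5) && (okLvls W D [] &&
    (Nat.beq (D.map fun l => l.T.length).prod 177408000 && search W R D [] [])))

theorem gw_lt {W : List (List ℕ)} (hW : okW W = true) (L : List ℕ) : ∀ x ∈ gw W L, x < 5 := by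
  intro x hx
  obtain ⟨i, -, hi⟩ := List.mem_flatMap.mp hx
  by_cases h : i < W.length
  · rw [List.getD_eq_getElem _ _ h] at hi
    exact Nat.blt_eq.mp (List.all_eq_true.mp (List.all_eq_true.mp hW _ (List.getElem_mem h)) x hi)
  · rw [List.getD_eq_default _ _ (Nat.le_of_not_lt h)] at hi
    exact absurd hi List.not_mem_nil

theorem commute_gw {W : List (List ℕ)} {p : P} (h : ∀ g ∈ W, Commute p (prodw pg g)) :
    ∀ L : List ℕ, Commute p (prodw pg (gw W L))
  | [] => by rw [gw, List.flatMap_nil, prodw_nil]; exact Commute.one_right p
  | i :: L => by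
    rw [gw, List.flatMap_cons, prodw_append]
    refine Commute.mul_right ?_ (commute_gw h L)
    by_cases hi : i < W.length
    · rw [List.getD_eq_getElem _ _ hi]
      exact h _ (List.getElem_mem hi)
    · rw [List.getD_eq_default _ _ (Nat.le_of_not_lt hi), prodw_nil]
      exact Commute.one_right p

theorem incr_nodup : ∀ l : List (ℕ × ℕ), incr l = true → (l.map Prod.fst).Nodup := by
  suffices key : ∀ l : List (ℕ × ℕ), incr l = true → (l.map Prod.fst).Pairwise (· < ·) from
    fun l h => (key l h).imp fun hab => ne_of_lt hab
  intro l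
  induction l with
  | nil => simp
  | cons a l ih =>
    intro h
    cases l with
    | nil => simp
    | cons b l =>
      simp only [incr, Bool.and_eq_true, Nat.blt_eq] at h
      have ih' := ih h.2
      rw [List.map_cons, List.pairwise_cons]
      refine ⟨fun x hx => ?_, ih'⟩
      rw [List.map_cons] at hx ih'
      rcases List.mem_cons.mp hx with rfl | hx
      · exact h.1
      · exact lt_trans h.1 ((List.pairwise_cons.mp ih').1 x hx)

/-- The chain of the levels. -/
def toS (D : List SLvl) : List (Fin 1408 × List P) :=
  D.map fun l => (pt l.b, l.T.map fun e => el e.2)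

theorem ok_toS (W : List (List ℕ)) : ∀ (D : List SLvl) (prev : List ℕ),
    okLvls W D prev = true → Ok pi (toS D)
  | [], _, _ => trivial
  | l :: D, prev, h => by
    simp only [okLvls, Bool.and_eq_true, Nat.blt_eq, List.all_eq_true] at h
    obtain ⟨hb, hn, hT, hf, -, hD⟩ := h
    refine ⟨?_, ?_, ok_toS W D _ hD⟩
    · refine List.Nodup.of_map (fun i : Fin 1408 => i.val) ?_
      rw [List.map_map, List.map_map]
      convert incr_nodup _ hn using 1
      refine List.map_congr_left fun e he => ?_
      show (mv pi (el e.2) (pt l.b)).val = e.1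
      rw [mv_el, pt_val hb]
      exact Nat.eq_of_beq_eq_true (hT e he)
    · intro d hd u hu
      obtain ⟨d', hd', rfl⟩ := List.mem_map.mp hd
      obtain ⟨e, he, rfl⟩ := List.mem_map.mp hu
      refine Fin.ext ?_
      rw [mv_el, pt_val hb]
      exact Nat.eq_of_beq_eq_true (hf d' hd' e he)

theorem size_toS : ∀ D : List SLvl, size (toS D) = (D.map fun l => l.T.length).prod
  | [] => rfl
  | l :: D => by
    show size (toS D) * _ = _
    rw [size_toS D, List.length_map, List.map_cons, List.prod_cons, mul_comm]

theorem walk_acc {acc : List ℕ} (h : ∀ x ∈ acc, x < 5) (i : Fin 1408) :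
    walk (wi acc) (mv pi (prodw pg acc) i).val = i.val := by
  rw [← mv_prodw (wi_lt h) (mv pi (prodw pg acc) i), prodw_wi h, mv_inv]

theorem search_spec (hB : Bound) {W R : List (List ℕ)} (hW : okW W = true)
    (hR : ∀ r ∈ R, ∀ x ∈ r, x < 5) {p : P} (hp : ∀ g ∈ W, Commute p (prodw pg g)) :
    ∀ (D : List SLvl) (prev ims acc : List ℕ), okLvls W D prev = true →
      prev.length = ims.length →
      (∀ k < prev.length, prev.getD k 0 < 1408 ∧
        (mv pi p (pt (prev.getD k 0))).val = ims.getD k 0) →
      (∀ x ∈ acc, x < 5) → ∀ i : Idx (toS D), p = elt (toS D) i * prodw pg acc →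
      search W R D ims acc = true → ∃ r ∈ R, p = prodw pg r
  | [], _, _, acc, _, _, _, hacc, i, hpe, h => by
    have hpe' : p = prodw pg acc := by
      rw [hpe]
      exact one_mul _
    have hc : (W.all fun g => same (acc ++ g) (g ++ acc)) = true := by
      refine List.all_eq_true.mpr fun g hg => ?_
      have hg5 : ∀ x ∈ g, x < 5 := fun x hx =>
        Nat.blt_eq.mp (List.all_eq_true.mp (List.all_eq_true.mp hW g hg) x hx)
      have key : ∀ q, q < 1408 → walk (acc ++ g) q = walk (g ++ acc) q := by
        intro q hq
        have e1 := mv_prodw (app_lt hacc hg5) (pt q)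
        have e2 := mv_prodw (app_lt hg5 hacc) (pt q)
        rw [prodw_append, ← hpe', pt_val hq] at e1 e2
        rw [← e1, ← e2, (hp g hg).eq]
      rw [same, walk4_eq, walk4_eq, key 0 (by norm_num), key 208 (by norm_num),
        key 252 (by norm_num), key 1336 (by norm_num)]
      exact Nat.beq_refl _
    simp only [search, leaf, hc, Bool.not_true, Bool.false_or, List.any_eq_true] at h
    obtain ⟨r, hr, hs⟩ := h
    exact ⟨r, hr, hpe'.trans (eq_of_same hB hacc (hR r hr) hs)⟩
  | l :: D, prev, ims, acc, hl, hlen, hims, hacc, i, hpe, h => by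
    simp only [okLvls, Bool.and_eq_true, Nat.blt_eq, List.all_eq_true] at hl
    obtain ⟨hb, hn, hT, hf, hkind, hD⟩ := hl
    have hfix : mv pi (elt (toS D) i.1) (pt l.b) = pt l.b := by
      refine elt_fix (toS D) (fun d hd u hu => ?_) i.1
      obtain ⟨d', hd', rfl⟩ := List.mem_map.mp hd
      obtain ⟨e, he, rfl⟩ := List.mem_map.mp hu
      refine Fin.ext ?_
      rw [mv_el, pt_val hb]
      exact Nat.eq_of_beq_eq_true (hf d' hd' e he)
    obtain ⟨e, he, heq⟩ : ∃ e ∈ l.T, el e.2 = (l.T.map fun e => el e.2).get i.2 :=
      List.mem_map.mp (List.get_mem (l.T.map fun e => el e.2) i.2)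
    have hpe' : p = elt (toS D) i.1 * (el e.2 * prodw pg acc) := by
      rw [hpe, ← mul_assoc, heq]
      rfl
    have hmain : step l (search W R D) ims acc (mv pi p (pt l.b)).val = true →
        ∃ r ∈ R, p = prodw pg r := by
      intro hs
      have hkey : walk (wi acc) (mv pi p (pt l.b)).val = e.1 := by
        rw [hpe', mv_mul, hfix, mv_mul, walk_acc hacc, mv_el, pt_val hb]
        exact Nat.eq_of_beq_eq_true (hT e he)
      have hfind : l.T.find? (fun d => Nat.beq d.1 e.1) = some e := by
        rcases hq : l.T.find? (fun d => Nat.beq d.1 e.1) with _ | d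
        · exact absurd (List.find?_eq_none.mp hq e he) (by simp)
        · have hd1 := List.mem_of_find?_eq_some hq
          have hd2 : d.1 = e.1 := Nat.eq_of_beq_eq_true (by simpa using List.find?_some hq)
          exact hq.trans (congrArg some (List.inj_on_of_nodup_map (incr_nodup _ hn) hd1 he hd2))
      simp only [step, force_eq, hkey, hfind] at hs
      refine search_spec hB hW hR hp D (prev ++ [l.b]) (ims ++ [(mv pi p (pt l.b)).val])
        (dec e.2 ++ acc) hD (by simp [hlen]) ?_ (app_lt (dec_lt _) hacc) i.1 ?_ hs
      · intro k hk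
        rw [List.length_append, List.length_singleton] at hk
        rcases Nat.lt_succ_iff_lt_or_eq.mp hk with hk | rfl
        · rw [List.getD_append _ _ _ _ hk, List.getD_append _ _ _ _ (hlen ▸ hk)]
          exact hims k hk
        · rw [List.getD_append_right _ _ _ _ le_rfl, List.getD_append_right _ _ _ _ hlen.ge,
            hlen]
          simpa using hb
      · rw [prodw_append]
        exact hpe'
    have hmove : ∀ (v : List ℕ) (a : ℕ), a < 1408 →
        (mv pi p (pt (walk (gw W v) a))).val = walk (gw W v) (mv pi p (pt a)).val := by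
      intro v a ha
      have e1 : pt (walk (gw W v) a) = mv pi (prodw pg (gw W v)) (pt a) := by
        have e0 := mv_prodw (gw_lt hW v) (pt a)
        rw [pt_val ha] at e0
        rw [← e0]
        exact Fin.ext (pt_val (Fin.isLt _))
      rw [e1, ← mv_prodw (gw_lt hW v) (mv pi p (pt a)), ← mv_mul, ← mv_mul, (commute_gw hp v).eq]
    rw [search] at h
    cases hroot : l.root
    · simp only [hroot, cond_false, Bool.and_eq_true, Nat.blt_eq] at h hkind
      obtain ⟨hs1, hs2⟩ := hkind
      obtain ⟨hlt, hval⟩ := hims _ hs1
      refine hmain ?_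
      rw [← Nat.eq_of_beq_eq_true hs2, hmove _ _ hlt, hval]
      exact h
    · simp only [hroot, cond_true, List.all_eq_true] at h hkind
      refine hmain ?_
      have hq := h (mv pi p (pt l.b)).val (List.mem_range.mpr (Fin.isLt _))
      have hv : (l.vs.all fun v =>
          Nat.beq (walk (gw W v) (mv pi p (pt l.b)).val) (mv pi p (pt l.b)).val) = true := by
        refine List.all_eq_true.mpr fun v hv => ?_
        rw [← hmove _ _ hb, Nat.eq_of_beq_eq_true (hkind v hv)]
        exact Nat.beq_refl _
      rw [hv, Bool.not_true, Bool.false_or] at hq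
      exact hq

/-- The elements commuting with the given words are listed. -/
theorem cent_of_okCent (hB : Bound) {W R : List (List ℕ)} {D : List SLvl}
    (h : okCent W R D = true) {p : P} (hp : ∀ g ∈ W, Commute p (prodw pg g)) :
    ∃ r ∈ R, p = prodw pg r := by
  have := hB.1
  simp only [okCent, Bool.and_eq_true] at h
  obtain ⟨hW, hR, hl, hsz, hs⟩ := h
  have hR' : ∀ r ∈ R, ∀ x ∈ r, x < 5 := fun r hr x hx =>
    Nat.blt_eq.mp (List.all_eq_true.mp (List.all_eq_true.mp hR r hr) x hx)
  have hc : Nat.card (⊤ : Subgroup P) ≤ size (toS D) := by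
    rw [size_toS, Nat.eq_of_beq_eq_true hsz, Subgroup.card_top]
    exact hB.2
  obtain ⟨i, hi⟩ := exists_elt (ok_toS W D [] hl) (fun _ _ _ _ => Subgroup.mem_top _) hc
    (Subgroup.mem_top p)
  exact search_spec hB hW hR' hp D [] [] [] hl rfl (fun k hk => absurd hk (Nat.not_lt_zero k))
    (fun x hx => absurd hx List.not_mem_nil) i (by rw [prodw_nil, mul_one, hi]) hs

end

end CfsgLib.HNOut
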